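import Mathlib

/-!
The arithmetic behind the largest element order of the projective general unitary group.
-/

set_option autoImplicit false

namespace Cfsg.Lib.UnitOrders.MaxOrder

/-- `(q ^ w - (-1) ^ w) / (q + 1)`. -/
def nn (q w : ℕ) : ℕ := (q ^ w + 1) / (q + 1)

/-- The exponent that makes an element scalar, from the weights `l` of its atoms and the largest multiplicity `E`. -/
def expo (p q : ℕ) (l : List ℕ) (E : ℕ) : ℕ :=
  (if l.length = 1 then 1 else q + 1) * (l.map (nn q)).prod * p ^ Nat.clog p E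

variable {p q : ℕ}

theorem nn_odd {w : ℕ} (hw : Odd w) : nn q w * (q + 1) = q ^ w + 1 :=
  Nat.div_mul_cancel (by simpa using hw.nat_add_dvd_pow_add_pow q 1)

theorem nn_even (hq : 2 ≤ q) {w : ℕ} (hw : Even w) : nn q w * (q + 1) + 1 = q ^ w := by
  have hd : q + 1 ∣ q ^ w - 1 := by
    obtain ⟨m, rfl⟩ := hw
    rw [← two_mul, pow_mul]
    refine Dvd.dvd.trans ⟨q - 1, ?_⟩ (Nat.sub_one_dvd_pow_sub_one _ m)
    rw [← Nat.sq_sub_sq, one_pow]
  obtain ⟨c, hc⟩ := hd
  have h1 : 1 ≤ q ^ w := Nat.one_le_pow _ _ (by omega)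
  have h : nn q w = c := by
    unfold nn
    rw [show q ^ w + 1 = 2 + (q + 1) * c by omega, Nat.add_mul_div_left _ _ (by omega), Nat.div_eq_of_lt (by omega)]
    simp
  rw [h, mul_comm]
  omega

theorem nn_pos {w : ℕ} (hw : 1 ≤ w) : 1 ≤ nn q w :=
  Nat.div_pos (by have := Nat.le_self_pow (show w ≠ 0 by omega) q; omega) (by omega)

theorem nn_mul_le {w : ℕ} : nn q w * (q + 1) ≤ q ^ w + 1 := Nat.div_mul_le_self _ _

theorem nn_mono (hq : 1 ≤ q) {a b : ℕ} (h : a ≤ b) : nn q a ≤ nn q b :=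
  Nat.div_le_div_right (Nat.succ_le_succ (Nat.pow_le_pow_right hq h))

theorem nn_mul_q_le (hq : 2 ≤ q) {w : ℕ} (hw : 1 ≤ w) : nn q w * q ≤ q ^ w := by
  have h1 := nn_mul_le (q := q) (w := w)
  have h2 := nn_pos (q := q) hw
  rw [mul_add, mul_one] at h1
  omega

theorem nn_one : nn q 1 = 1 := by rw [nn, pow_one, Nat.div_self (by omega)]

theorem prod_le (hq : 2 ≤ q) : ∀ l : List ℕ, (∀ w ∈ l, 1 ≤ w) → (l.map (nn q)).prod * q ^ l.length ≤ q ^ l.sum
  | [], _ => by simp
  | w :: l, h => by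
    have h1 := nn_mul_q_le hq (h w (List.mem_cons_self ..))
    have h2 := prod_le hq l fun x hx => h x (List.mem_cons_of_mem _ hx)
    rw [List.map_cons, List.prod_cons, List.length_cons, List.sum_cons, pow_succ, pow_add]
    calc nn q w * (l.map (nn q)).prod * (q ^ l.length * q)
        = (nn q w * q) * ((l.map (nn q)).prod * q ^ l.length) := by ring
      _ ≤ q ^ w * q ^ l.sum := Nat.mul_le_mul h1 h2

theorem sum_ge_length : ∀ l : List ℕ, (∀ w ∈ l, 1 ≤ w) → l.length ≤ l.sum
  | [], _ => by simp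
  | w :: l, h => by
    have h1 := h w (List.mem_cons_self ..)
    have h2 := sum_ge_length l fun x hx => h x (List.mem_cons_of_mem _ hx)
    simp only [List.length_cons, List.sum_cons]
    omega

theorem two_le (hq : 2 ≤ q) {a b : ℕ} (ha : 1 ≤ a) (hb : 1 ≤ b) :
    (q + 1) * (nn q a * nn q b) ≤ q ^ (a + b - 1) + 1 := by
  obtain ⟨a, rfl⟩ : ∃ c, a = c + 1 := ⟨a - 1, by omega⟩
  obtain ⟨b, rfl⟩ : ∃ c, b = c + 1 := ⟨b - 1, by omega⟩
  have h1 := Nat.mul_le_mul (nn_mul_le (q := q) (w := a + 1)) (nn_mul_le (q := q) (w := b + 1))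
  have hA : 1 ≤ q ^ a := Nat.one_le_pow _ _ (by omega)
  have hB : 1 ≤ q ^ b := Nat.one_le_pow _ _ (by omega)
  rw [show a + 1 + (b + 1) - 1 = a + b + 1 by omega, pow_succ, pow_add]
  refine Nat.le_of_mul_le_mul_right (c := q + 1) ?_ (by omega)
  simp only [pow_succ] at h1
  nlinarith [mul_le_mul' hA hB, Nat.mul_le_mul_left q (show q ^ a + q ^ b ≤ q ^ a * q ^ b + 1 by nlinarith)]

theorem two_le_odd (hq : 2 ≤ q) {a b : ℕ} (ha : 1 ≤ a) (hb : 1 ≤ b) (hodd : Odd (a + b)) :
    (q + 1) * (nn q a * nn q b) + 1 ≤ q ^ (a + b - 1) := by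
  wlog hE : Even a generalizing a b
  · rw [mul_comm (nn q a), add_comm a]
    exact this hb ha (by rwa [add_comm]) ((Nat.odd_add.1 hodd).1 (Nat.not_even_iff_odd.1 hE))
  have hbo : Odd b := (Nat.odd_add'.1 hodd).2 hE
  have e1 := nn_even hq hE
  have e2 := nn_odd (q := q) hbo
  obtain ⟨a, rfl⟩ : ∃ c, a = c + 1 := ⟨a - 1, by omega⟩
  obtain ⟨b, rfl⟩ : ∃ c, b = c + 1 := ⟨b - 1, by omega⟩
  have hA : 1 ≤ q ^ a := Nat.one_le_pow _ _ (by omega)
  have hB : 1 ≤ q ^ b := Nat.one_le_pow _ _ (by omega)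
  rw [show a + 1 + (b + 1) - 1 = a + b + 1 by omega, pow_succ, pow_add]
  refine Nat.le_of_mul_le_mul_right (c := q + 1) ?_ (by omega)
  simp only [pow_succ] at e1 e2
  zify at e1 e2 ⊢
  have hA' : (1 : ℤ) ≤ (q : ℤ) ^ a := by exact_mod_cast hA
  have hB' : (1 : ℤ) ≤ (q : ℤ) ^ b := by exact_mod_cast hB
  have h2 : (q : ℤ) * ((q : ℤ) ^ a + 1) ≤ (q : ℤ) * ((q : ℤ) ^ a * (q : ℤ) ^ b + (q : ℤ) ^ b) :=
    mul_le_mul_of_nonneg_left (by nlinarith) (by omega)
  have h3 : ((q : ℤ) + 1) * ((nn q (a + 1) : ℤ) * nn q (b + 1)) * ((q : ℤ) + 1) =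
      ((q : ℤ) ^ a * q - 1) * ((q : ℤ) ^ b * q + 1) := by
    rw [← e1, ← e2]; ring
  nlinarith

theorem clog_pow_le (hp : 2 ≤ p) {E : ℕ} (hE : 2 ≤ E) : p ^ Nat.clog p E ≤ p * (E - 1) := by
  obtain ⟨c, hc⟩ := Nat.exists_eq_succ_of_ne_zero (Nat.clog_pos (show 1 < p by omega) hE).ne'
  have h := Nat.pow_pred_clog_lt_self (show 1 < p by omega) (show 1 < E by omega)
  rw [hc, Nat.pred_succ] at h
  rw [hc, pow_succ']
  exact Nat.mul_le_mul_left _ (by omega)

theorem succ_le_pow (hq : 2 ≤ q) (k : ℕ) : k + 1 ≤ q ^ k := Nat.lt_pow_self (by omega)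

theorem two_succ_le_pow (hq : 3 ≤ q) {k : ℕ} (hk : 2 ≤ k) : 2 * (k + 1) ≤ q ^ k := by
  induction k, hk using Nat.le_induction with
  | base => nlinarith
  | succ k hk ih => rw [pow_succ]; nlinarith

theorem succ_two_le_pow {k : ℕ} (hk : 2 ≤ k) : k + 2 ≤ 2 ^ k := by
  induction k, hk using Nat.le_induction with
  | base => norm_num
  | succ k hk ih => rw [pow_succ]; omega

theorem lin_le_pow (hq : 2 ≤ q) {k : ℕ} (hk : 2 ≤ k) (h : k = 2 → 3 ≤ q) : q * k + 1 ≤ q ^ k := by
  rcases eq_or_lt_of_le hk with rfl | hk'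
  · have := h rfl; nlinarith
  replace hk' : 3 ≤ k := hk'
  clear h hk
  induction k, hk' using Nat.le_induction with
  | base => nlinarith [Nat.mul_le_mul hq hq]
  | succ k hk ih =>
    rw [pow_succ]
    have h2 : q ^ k * 2 ≤ q ^ k * q := Nat.mul_le_mul_left _ hq
    have h3 : q * 1 ≤ q * k := Nat.mul_le_mul_left _ (by omega)
    rw [mul_add]
    omega

/-- The bound. -/
theorem bound {f d : ℕ} (hp : p.Prime) (hf : 1 ≤ f) (hq : q = p ^ f) (hd : 3 ≤ d) (h32 : ¬ (d = 3 ∧ q = 2))
    (l : List ℕ) (E : ℕ) (hl : ∀ w ∈ l, 1 ≤ w) (hl0 : l ≠ []) (hE : 1 ≤ E) (hD : l.sum + E ≤ d + 1)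
    (h1 : l.length = 1 → E * l.sum ≤ d) :
    expo p q l E + 1 ≤ q ^ (d - 1) ∨ (Even d ∧ expo p q l E ≤ q ^ (d - 1) + 1) ∨
      (Odd d ∧ q = p ∧ expo p q l E ≤ (p ^ (d - 2) + 1) * p) ∨
      (Even d ∧ q = 2 ∧ expo p q l E ≤ 4 * (2 ^ (d - 3) + 1)) := by
  have hp2 := hp.two_le
  have hpq : p ≤ q := hq ▸ Nat.le_self_pow (by omega) p
  have hq2 : 2 ≤ q := by omega
  have hq0 : 0 < q := by omega
  have hG : ∀ x, x ≤ (q + 1) * q ^ (d - 3) → x + 1 ≤ q ^ (d - 1) := by
    intro x hx
    have h3 : 1 ≤ q ^ (d - 3) := Nat.one_le_pow _ _ hq0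
    rw [show d - 1 = d - 3 + 2 by omega, pow_add]
    nlinarith [Nat.mul_le_mul hq2 hq2, Nat.mul_le_mul_left (q ^ (d - 3)) (show q + 2 ≤ q ^ 2 by nlinarith)]
  have hlow : ∀ x, x ≤ q ^ (d - 2) → x + 1 ≤ q ^ (d - 1) := fun x hx => by
    have := Nat.pow_lt_pow_right (show 1 < q by omega) (show d - 2 < d - 1 by omega)
    omega
  rcases l with _ | ⟨a, _ | ⟨b, _ | ⟨c, t⟩⟩⟩
  · exact absurd rfl hl0
  · -- one atom
    left
    have ha := hl a (List.mem_cons_self ..)
    have hEa : E * a ≤ d := by simpa using h1 rfl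
    have he : expo p q [a] E = nn q a * p ^ Nat.clog p E := by simp [expo]
    rw [he]
    rcases eq_or_lt_of_le hE with rfl | hE2
    · rw [Nat.clog_one_right, pow_zero, mul_one]
      have h2 := Nat.mul_le_mul_right (q + 1) (nn_mono (q := q) (by omega) (show a ≤ d by simpa using hEa))
      have h3 := nn_mul_le (q := q) (w := d)
      have h4 : q ^ 2 ≤ q ^ (d - 1) := Nat.pow_le_pow_right hq0 (by omega)
      rw [show q ^ d = q ^ (d - 1) * q by rw [← pow_succ]; congr 1; omega] at h3
      refine Nat.le_of_mul_le_mul_right (c := q + 1) ?_ (by omega)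
      nlinarith
    replace hE2 : 2 ≤ E := hE2
    have hc := clog_pow_le hp2 hE2
    rcases eq_or_lt_of_le ha with rfl | ha2
    · rw [nn_one, one_mul]
      rw [mul_one] at hEa
      have h2 := lin_le_pow hq2 (show 2 ≤ d - 1 by omega) (fun h => by
        by_contra h3; exact h32 ⟨by omega, by omega⟩)
      have h3 : p * (E - 1) ≤ q * (d - 1) := Nat.mul_le_mul hpq (by omega)
      omega
    · refine hlow _ ?_
      have hDE : a + E ≤ d := by
        have h2 : 0 ≤ (E - 2) * (a - 2) := Nat.zero_le _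
        have : E * a ≥ a + E := by nlinarith
        omega
      calc nn q a * p ^ Nat.clog p E ≤ nn q a * (q * q ^ (E - 2)) := Nat.mul_le_mul_left _
            (hc.trans (Nat.mul_le_mul hpq (by have := succ_le_pow hq2 (E - 2); omega)))
        _ = nn q a * q * q ^ (E - 2) := by ring
        _ ≤ q ^ a * q ^ (E - 2) := Nat.mul_le_mul_right _ (nn_mul_q_le hq2 ha)
        _ ≤ q ^ (d - 2) := by rw [← pow_add]; exact Nat.pow_le_pow_right hq0 (by omega)
  · -- two atoms
    have ha := hl a (by simp)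
    have hb := hl b (by simp)
    have hD' : a + b + E ≤ d + 1 := by simpa [add_assoc] using hD
    have he : expo p q [a, b] E = (q + 1) * (nn q a * nn q b) * p ^ Nat.clog p E := by simp [expo]
    rw [he]
    have hX := two_le hq2 ha hb
    set X := (q + 1) * (nn q a * nn q b) with hXdef
    clear_value X
    have hmono : ∀ e, a + b - 1 ≤ e → q ^ (a + b - 1) ≤ q ^ e := fun e he => Nat.pow_le_pow_right hq0 he
    rcases eq_or_lt_of_le hE with rfl | hE2
    · rw [Nat.clog_one_right, pow_zero, mul_one]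
      rcases lt_or_eq_of_le (show a + b ≤ d by omega) with h | h
      · left
        have h2 := hmono (d - 2) (by omega)
        have h3 : 1 ≤ q ^ (d - 3) := Nat.one_le_pow _ _ hq0
        have h4 : q ^ (d - 2) = q * q ^ (d - 3) := by rw [← pow_succ']; congr 1; omega
        apply hG
        rw [add_mul, one_mul]
        omega
      · rw [h] at hX
        rcases Nat.even_or_odd d with hev | hodd
        · exact Or.inr (Or.inl ⟨hev, hX⟩)
        · left
          have := two_le_odd hq2 ha hb (h ▸ hodd)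
          rw [h, ← hXdef] at this
          exact this
    replace hE2 : 2 ≤ E := hE2
    have hc := clog_pow_le hp2 hE2
    rcases eq_or_lt_of_le hE2 with rfl | hE3
    · -- multiplicity two
      have hu : p ^ Nat.clog p 2 ≤ p := by simpa using hc
      rcases Nat.even_or_odd d with hev | hodd
      · left
        have hd4 : 4 ≤ d := by obtain ⟨k, rfl⟩ := hev; omega
        rcases lt_or_eq_of_le (show a + b ≤ d - 1 by omega) with h | h
        · have h2 := hmono (d - 3) (by omega)
          have h3 : X * p ^ Nat.clog p 2 ≤ (q ^ (d - 3) + 1) * q := Nat.mul_le_mul (by omega) (hu.trans hpq)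
          have h4 : q ≤ q ^ (d - 3) := Nat.le_self_pow (by omega) q
          apply hG
          rw [add_mul, one_mul] at h3 ⊢
          rw [mul_comm q (q ^ (d - 3))]
          omega
        · have hodd : Odd (a + b) := by obtain ⟨k, rfl⟩ := hev; exact ⟨k - 1, by omega⟩
          have h2 := two_le_odd hq2 ha hb hodd
          rw [h, ← hXdef] at h2
          have h3 : X * p ^ Nat.clog p 2 + q ≤ q ^ (d - 1) := by
            calc X * p ^ Nat.clog p 2 + q ≤ X * q + q := Nat.add_le_add_right (Nat.mul_le_mul_left _ (hu.trans hpq)) _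
              _ = (X + 1) * q := by ring
              _ ≤ q ^ (d - 1 - 1) * q := Nat.mul_le_mul_right _ h2
              _ = q ^ (d - 1) := by rw [← pow_succ]; congr 1; omega
          omega
      · have h2 := hmono (d - 2) (by omega)
        have h3 : X * p ^ Nat.clog p 2 ≤ (q ^ (d - 2) + 1) * p := Nat.mul_le_mul (by omega) hu
        rcases eq_or_lt_of_le hf with rfl | hf2
        · rw [pow_one] at hq
          subst hq
          exact Or.inr (Or.inr (Or.inl ⟨hodd, rfl, h3⟩))
        · left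
          have hpp : p ^ 2 ≤ q := hq ▸ Nat.pow_le_pow_right (by omega) hf2
          have h4 : q ≤ q ^ (d - 2) := Nat.le_self_pow (by omega) q
          have h5 : q ^ (d - 1) = q ^ (d - 2) * q := by rw [← pow_succ]; congr 1; omega
          have h6 : p + 1 ≤ q := by nlinarith
          have h7 := Nat.mul_le_mul_left (q ^ (d - 2)) h6
          rw [add_mul, one_mul] at h3
          rw [mul_add, mul_one] at h7
          omega
    replace hE3 : 3 ≤ E := hE3
    rcases eq_or_lt_of_le hq2 with hq' | hq3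
    · -- the field with four elements
      subst hq'
      have hp' : p = 2 := le_antisymm hpq hp2
      subst hp'
      rcases le_or_gt E 4 with hE4 | hE5
      · have hu : 2 ^ Nat.clog 2 E ≤ 4 :=
          Nat.pow_le_pow_right (by norm_num) (Nat.clog_le_of_le_pow (show E ≤ 2 ^ 2 by omega))
        have h3 : X * 2 ^ Nat.clog 2 E ≤ X * 4 := Nat.mul_le_mul_left _ hu
        rcases Nat.even_or_odd d with hev | hodd
        · refine Or.inr (Or.inr (Or.inr ⟨hev, rfl, ?_⟩))
          have h2 := hmono (d - 3) (by omega)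
          omega
        · rcases lt_or_eq_of_le (show a + b ≤ d - 2 by omega) with h | h
          · refine Or.inr (Or.inr (Or.inl ⟨hodd, rfl, ?_⟩))
            have h2 := hmono (d - 4) (by omega)
            have h4 : 2 ^ (d - 2) = 4 * 2 ^ (d - 4) := by
              rw [show d - 2 = d - 4 + 2 by omega, pow_add]; ring
            have h5 : 1 ≤ 2 ^ (d - 4) := Nat.one_le_pow _ _ (by omega)
            omega
          · left
            have hodd2 : Odd (a + b) := by obtain ⟨k, rfl⟩ := hodd; exact ⟨k - 1, by omega⟩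
            have h2 := two_le_odd le_rfl ha hb hodd2
            rw [h, ← hXdef] at h2
            have h4 : 2 ^ (d - 1) = 4 * 2 ^ (d - 2 - 1) := by
              rw [show d - 1 = d - 2 - 1 + 2 by omega, pow_add]; ring
            omega
      · have h2 := hmono (d - E) (by omega)
        have h3 : 1 ≤ 2 ^ (d - E) := Nat.one_le_pow _ _ (by omega)
        have h4 : E - 1 ≤ 2 ^ (E - 3) := by have := succ_two_le_pow (show 2 ≤ E - 3 by omega); omega
        have h5 : X * 2 ^ Nat.clog 2 E ≤ 2 ^ (d - 1) := by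
          calc X * 2 ^ Nat.clog 2 E ≤ (2 * 2 ^ (d - E)) * (2 * 2 ^ (E - 3)) :=
                Nat.mul_le_mul (by omega) (hc.trans (Nat.mul_le_mul_left _ h4))
            _ = 2 ^ 2 * (2 ^ (d - E) * 2 ^ (E - 3)) := by ring
            _ = 2 ^ (d - 1) := by rw [← pow_add, ← pow_add]; congr 1; omega
        rcases Nat.even_or_odd d with hev | hodd
        · exact Or.inr (Or.inl ⟨hev, h5.trans (Nat.le_succ _)⟩)
        · refine Or.inr (Or.inr (Or.inl ⟨hodd, rfl, h5.trans ?_⟩))
          rw [show d - 1 = d - 2 + 1 by omega, pow_succ, add_mul]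
          omega
    replace hq3 : 3 ≤ q := hq3
    left
    rcases eq_or_lt_of_le hE3 with rfl | hE4
    · have hu : p ^ Nat.clog p 3 ≤ q := by
        rcases eq_or_lt_of_le hp2 with hp' | hp3
        · subst hp'
          have h1' : f ≠ 1 := fun h => by rw [h] at hq; omega
          calc 2 ^ Nat.clog 2 3 ≤ 2 ^ 2 := Nat.pow_le_pow_right (by norm_num) (Nat.clog_le_of_le_pow (by norm_num))
            _ ≤ q := hq ▸ Nat.pow_le_pow_right (by norm_num) (by omega)
        · have : Nat.clog p 3 ≤ 1 := Nat.clog_le_of_le_pow (by rw [pow_one]; omega)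
          exact (Nat.pow_le_pow_right (by omega) this).trans (by rwa [pow_one])
      have h2 := hmono (d - 3) (by omega)
      have h3 : X * p ^ Nat.clog p 3 ≤ (q ^ (d - 3) + 1) * q := Nat.mul_le_mul (by omega) hu
      have h4 : q ≤ q ^ (d - 3) := Nat.le_self_pow (by omega) q
      apply hG
      rw [add_mul, one_mul] at h3 ⊢
      rw [mul_comm q (q ^ (d - 3))]
      omega
    · have h2 := hmono (d - E) (by omega)
      have h3 : q ≤ q ^ (d - E) := Nat.le_self_pow (by omega) q
      have h4 : 2 * (E - 1) ≤ q ^ (E - 2) := by have := two_succ_le_pow hq3 (show 2 ≤ E - 2 by omega); omega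
      have h5 : p ^ Nat.clog p E ≤ q * (E - 1) := hc.trans (Nat.mul_le_mul_right _ hpq)
      have h6 : X * p ^ Nat.clog p E ≤ (q ^ (d - E) + 1) * (q * (E - 1)) := Nat.mul_le_mul (by omega) h5
      have h7 : q ^ (d - 1) = q ^ (d - E) * (q * q ^ (E - 2)) := by
        rw [← pow_succ', ← pow_add]; congr 1; omega
      have h8 : 1 ≤ E - 1 := by omega
      have h9 : (q ^ (d - E) + 1) * (q * (E - 1)) + 1 ≤ q ^ (d - E) * (q * (2 * (E - 1))) := by
        have h10 : q * (E - 1) + 1 ≤ q ^ (d - E) * (q * (E - 1)) := by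
          have h11 : 2 * (q * (E - 1)) ≤ q ^ (d - E) * (q * (E - 1)) := Nat.mul_le_mul_right _ (by omega)
          have h12 : 1 ≤ q * (E - 1) := Nat.mul_pos hq0 (by omega)
          omega
        nlinarith
      have h13 : q ^ (d - E) * (q * (2 * (E - 1))) ≤ q ^ (d - E) * (q * q ^ (E - 2)) :=
        Nat.mul_le_mul_left _ (Nat.mul_le_mul_left _ h4)
      omega
  · -- at least three atoms
    left
    set l := a :: b :: c :: t with hldef
    have hlen : 3 ≤ l.length := by simp [hldef]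
    have h2 := prod_le hq2 l hl
    have h3 := sum_ge_length l hl
    have he : expo p q l E = (q + 1) * (l.map (nn q)).prod * p ^ Nat.clog p E := by
      rw [expo, if_neg (by omega)]
    rw [he]
    apply hG
    rcases eq_or_lt_of_le hE with rfl | hE2
    · rw [Nat.clog_one_right, pow_zero, mul_one]
      refine Nat.mul_le_mul_left _ (Nat.le_of_mul_le_mul_right (c := q ^ l.length) ?_ (Nat.pow_pos hq0))
      exact h2.trans (by rw [← pow_add]; exact Nat.pow_le_pow_right hq0 (by omega))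
    · have hc := clog_pow_le hp2 (show 2 ≤ E from hE2)
      have h5 : p ^ Nat.clog p E ≤ q * q ^ (E - 2) :=
        hc.trans (Nat.mul_le_mul hpq (by have := succ_le_pow hq2 (E - 2); omega))
      rw [mul_assoc]
      refine Nat.mul_le_mul_left _ (Nat.le_of_mul_le_mul_right (c := q ^ l.length) ?_ (Nat.pow_pos hq0))
      calc (l.map (nn q)).prod * p ^ Nat.clog p E * q ^ l.length
          = (l.map (nn q)).prod * q ^ l.length * p ^ Nat.clog p E := by ring
        _ ≤ q ^ l.sum * (q * q ^ (E - 2)) := Nat.mul_le_mul h2 h5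
        _ ≤ q ^ (d - 3) * q ^ l.length := by
          rw [← pow_succ', ← pow_add, ← pow_add]; exact Nat.pow_le_pow_right hq0 (by omega)

end Cfsg.Lib.UnitOrders.MaxOrder
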