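import Cfsg.Agent.Known.UnitOrders.Analysis
import Cfsg.Agent.Known.UnitOrders.MaxOrder.Arith
import Cfsg.Agent.Known.UnitaryGU
import Mathlib

/-!
A bounded power of every unitary matrix is scalar.
-/

set_option autoImplicit false
set_option linter.style.haveILetI false

open Polynomial Matrix UniqueFactorizationMonoid Cfsg.Lib.UnitaryConj

namespace Cfsg.Lib.UnitOrders.MaxOrder

variable {F : Type*} [Field F] [Fintype F] {q : ℕ}

/-- The weight of the atom of an irreducible factor. -/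
noncomputable def wt (σ : F →+* F) (f : F[X]) : ℕ :=
  letI := Classical.propDecidable
  if DualPoly.dual σ f = f then f.natDegree else 2 * f.natDegree

/-- An atom is killed up to a norm-one scalar. -/
theorem atom (hF : Fintype.card F = q ^ 2) (hq : 2 ≤ q) {σ : F →+* F} (hσq : ∀ a, σ a = a ^ q)
    (hσ : ∀ a, σ (σ a) = a) {f : F[X]} (hf : f.Monic) (hfi : Irreducible f) (h0 : f.coeff 0 ≠ 0) :
    ∃ c : F, c ^ (q + 1) = 1 ∧ f ∣ X ^ nn q (wt σ f) - C c ∧
      DualPoly.dual σ f ∣ X ^ nn q (wt σ f) - C c := by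
  classical
  obtain ⟨K, _, _, r, S, -, hmin, hmin', hr0, hrord, -, hself⟩ := root_facts hF hσq hσ hf hfi h0
  set n := nn q (wt σ f) with hn
  have hr : r ^ (n * (q + 1)) = 1 := by
    apply orderOf_dvd_iff_pow_eq_one.1
    rw [hn]
    by_cases hd : DualPoly.dual σ f = f
    · obtain ⟨hodd, h⟩ := hself hd
      rw [wt, if_pos hd, nn_odd hodd]
      exact h
    · rw [wt, if_neg hd]
      have h := nn_even hq (even_two_mul f.natDegree)
      rwa [show nn q (2 * f.natDegree) * (q + 1) = q ^ (2 * f.natDegree) - 1 by omega]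
  obtain ⟨c, hc⟩ := exists_algebraMap_of_pow (F := F) (x := r ^ n) (by
    rw [hF, ← pow_mul, show q ^ 2 - 1 = (q + 1) * (q - 1) by rw [← Nat.sq_sub_sq, one_pow], ← mul_assoc, pow_mul, hr,
      one_pow])
  have hcq : c ^ (q + 1) = 1 := by
    apply (algebraMap F K).injective
    rw [map_pow, hc, map_one, ← pow_mul, hr]
  refine ⟨c, hcq, hmin _ (by simp [hc]), hmin' _ ?_⟩
  have hc2 : algebraMap F K c = ((r ^ q)⁻¹) ^ n := by
    rw [inv_pow, ← pow_mul, mul_comm q, pow_mul, ← hc, ← map_pow, ← map_inv₀]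
    congr 1
    exact (eq_inv_of_mul_eq_one_left (by rw [← pow_succ']; exact hcq))
  simp [hc2]

omit [Fintype F] in
theorem X_pow_sub_one_dvd {n L : ℕ} {c : F} (hc : c ^ (q + 1) = 1) (h : n * (q + 1) ∣ L) :
    (X : F[X]) ^ n - C c ∣ X ^ L - 1 := by
  obtain ⟨k, rfl⟩ := h
  have h1 : (X : F[X]) ^ n - C c ∣ X ^ (n * (q + 1)) - 1 := by
    have h := sub_dvd_pow_sub_pow ((X : F[X]) ^ n) (C c) (q + 1)
    rwa [← pow_mul, ← map_pow, hc, map_one] at h
  refine h1.trans ?_
  have h2 := sub_dvd_pow_sub_pow ((X : F[X]) ^ (n * (q + 1))) 1 k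
  rwa [← pow_mul, one_pow] at h2

/-- The atoms of a self-dual set of irreducible factors. -/
theorem exists_atoms (hF : Fintype.card F = q ^ 2) (hq : 2 ≤ q) {σ : F →+* F} (hσq : ∀ a, σ a = a ^ q)
    (hσ : ∀ a, σ (σ a) = a) (e : F[X] → ℕ) (S : Finset F[X])
    (hS : ∀ f ∈ S, f.Monic ∧ Irreducible f ∧ f.coeff 0 ≠ 0 ∧ DualPoly.dual σ f ∈ S ∧ e (DualPoly.dual σ f) = e f) :
    ∃ l : List ℕ, (∀ w ∈ l, 1 ≤ w) ∧ l.sum = ∑ f ∈ S, f.natDegree ∧
      (∀ f ∈ S, f ∣ X ^ ((q + 1) * (l.map (nn q)).prod) - 1) ∧ (l = [] → S = ∅) ∧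
      (∀ w, l = [w] → ∃ c : F, ∀ g ∈ S, g ∣ X ^ nn q w - C c ∧ ∀ h ∈ S, e g = e h) := by
  classical
  induction S using Finset.strongInduction with
  | H S ih =>
    rcases S.eq_empty_or_nonempty with rfl | ⟨f, hf⟩
    · exact ⟨[], by simp, by simp, by simp, fun _ => rfl, fun w hw => by simp at hw⟩
    obtain ⟨hfm, hfi, hf0, hfd, hfe⟩ := hS f hf
    obtain ⟨c, hc, hc1, hc2⟩ := atom hF hq hσq hσ hfm hfi hf0
    set T := ({f, DualPoly.dual σ f} : Finset F[X]) with hT
    have hTS : T ⊆ S := by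
      rw [hT, Finset.insert_subset_iff, Finset.singleton_subset_iff]; exact ⟨hf, hfd⟩
    have hTd : ∀ g ∈ S, DualPoly.dual σ g ∈ T → g ∈ T := by
      intro g hg h
      obtain ⟨hgm, -, hg0, -⟩ := hS g hg
      rw [← DualPoly.dual_dual hσ hgm hg0]
      simp only [hT, Finset.mem_insert, Finset.mem_singleton] at h ⊢
      rcases h with h | h
      · rw [h]; exact Or.inr rfl
      · rw [h, DualPoly.dual_dual hσ hfm hf0]; exact Or.inl rfl
    obtain ⟨l, hl, hsum, hdvd, hnil, -⟩ := ih (S \ T)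
      (Finset.sdiff_ssubset hTS ⟨f, by simp [hT]⟩) fun g hg => by
        obtain ⟨hg1, hg2⟩ := Finset.mem_sdiff.1 hg
        obtain ⟨hgm, hgi, hg0, hgd, hge⟩ := hS g hg1
        exact ⟨hgm, hgi, hg0, Finset.mem_sdiff.2 ⟨hgd, fun h => hg2 (hTd g hg1 h)⟩, hge⟩
    have hw1 : 1 ≤ wt σ f := by
      have := hfi.natDegree_pos
      unfold wt; split_ifs <;> omega
    have hTsum : ∑ g ∈ T, g.natDegree = wt σ f := by
      rw [hT, wt]
      by_cases hd : DualPoly.dual σ f = f
      · rw [if_pos hd, hd]; simp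
      · rw [if_neg hd, Finset.sum_pair (Ne.symm hd), DualPoly.dual_natDegree hf0, two_mul]
    have hTc : ∀ g ∈ T, g ∣ X ^ nn q (wt σ f) - C c := fun g hg => by
      simp only [hT, Finset.mem_insert, Finset.mem_singleton] at hg
      rcases hg with rfl | rfl <;> assumption
    refine ⟨wt σ f :: l, ?_, ?_, ?_, by simp, ?_⟩
    · intro w hw
      rcases List.mem_cons.1 hw with rfl | hw
      · exact hw1
      · exact hl w hw
    · rw [List.sum_cons, hsum, ← hTsum, add_comm, Finset.sum_sdiff hTS]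
    · intro g hg
      rw [List.map_cons, List.prod_cons]
      by_cases hgT : g ∈ T
      · exact (hTc g hgT).trans (X_pow_sub_one_dvd hc ⟨(l.map (nn q)).prod, by ring⟩)
      · refine (hdvd g (Finset.mem_sdiff.2 ⟨hg, hgT⟩)).trans ?_
        have h2 := sub_dvd_pow_sub_pow ((X : F[X]) ^ ((q + 1) * (l.map (nn q)).prod)) 1 (nn q (wt σ f))
        rw [← pow_mul, one_pow] at h2
        rwa [show (q + 1) * (nn q (wt σ f) * (l.map (nn q)).prod) =
          (q + 1) * (l.map (nn q)).prod * nn q (wt σ f) by ring]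
    · intro w hw
      obtain ⟨rfl, hl'⟩ := List.cons.inj hw
      have hST : S ⊆ T := Finset.sdiff_eq_empty_iff_subset.1 (hnil hl')
      have hev : ∀ g ∈ S, e g = e f := fun g hg => by
        have := hST hg
        simp only [hT, Finset.mem_insert, Finset.mem_singleton] at this
        rcases this with rfl | rfl
        · rfl
        · exact hfe
      exact ⟨c, fun g hg => ⟨hTc g (hST hg), fun h hh => by rw [hev g hg, hev h hh]⟩⟩

/-- Every unitary matrix has a scalar power with exponent given by atom weights. -/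
theorem exists_scalar_pow (hF : Fintype.card F = q ^ 2) (p : ℕ) [Fact p.Prime] [CharP F p] {d : ℕ} (hd : 1 ≤ d)
    (M : Matrix (Fin d) (Fin d) F) (hM : cst (Classical.powConj hF) M * M = 1) :
    ∃ (l : List ℕ) (E : ℕ), (∀ w ∈ l, 1 ≤ w) ∧ l ≠ [] ∧ 1 ≤ E ∧ l.sum + E ≤ d + 1 ∧
      (l.length = 1 → E * l.sum ≤ d) ∧ ∃ c : F, M ^ expo p q l E = c • 1 := by
  classical
  haveI : Nonempty (Fin d) := ⟨⟨0, hd⟩⟩
  have hq : 2 ≤ q := by
    have h := Fintype.one_lt_card (α := F)
    rw [hF] at h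
    by_contra hc
    interval_cases q <;> simp at h
  set σ := Classical.powConj hF with hσdef
  have hσq := Classical.powConj_apply hF
  have hσ := invol hF
  set B := cst σ M with hB
  have hMB : M * B = 1 := mul_eq_one_comm.1 hM
  have hcBM : Commute B M := hM.trans hMB.symm
  set μ := minpoly F M with hμdef
  have hμ : μ.Monic := minpoly.monic (Matrix.isIntegral M)
  have hμχ : μ ∣ M.charpoly := Matrix.minpoly_dvd_charpoly M
  have h0 : μ.coeff 0 ≠ 0 := fun h => by
    obtain ⟨c, hc⟩ := hμχ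
    have hdet := Matrix.det_eq_sign_charpoly_coeff M
    rw [hc, mul_coeff_zero, h, zero_mul, mul_zero] at hdet
    have := congrArg Matrix.det hMB
    rw [det_mul, hdet, zero_mul, det_one] at this
    exact zero_ne_one this
  have hμdeg : μ.natDegree ≤ d := by
    have := natDegree_le_of_dvd hμχ (Matrix.charpoly_monic M).ne_zero
    rwa [Matrix.charpoly_natDegree_eq_dim, Fintype.card_fin] at this
  have hsdμ : μ ∣ DualPoly.dual σ μ := by
    refine minpoly.dvd F M ?_
    rw [DualPoly.dual, map_mul, ← ClassNumberSU.aeval_reverse (K := F) M B hM hcBM.symm, ← ClassNumberSU.cst_aeval,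
      minpoly.aeval]
    have hz : cst σ (0 : Matrix (Fin d) (Fin d) F) = 0 := by ext; simp [cst]
    rw [hz, zero_mul, mul_zero]
  have hsd : DualPoly.dual σ μ = μ := (Polynomial.eq_of_monic_of_dvd_of_natDegree_le hμ (DualPoly.dual_monic h0) hsdμ
    (DualPoly.dual_natDegree h0).le)
  set S := (normalizedFactors μ).toFinset with hS
  set e : F[X] → ℕ := fun f => (normalizedFactors μ).count f with he
  have hmem : ∀ f ∈ S, f.Monic ∧ Irreducible f ∧ f ∣ μ ∧ f.coeff 0 ≠ 0 := fun f hf => by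
    rw [hS, Multiset.mem_toFinset] at hf
    have hfi := irreducible_of_normalized_factor f hf
    have hfd := dvd_of_mem_normalizedFactors hf
    refine ⟨?_, hfi, hfd, fun h => h0 ?_⟩
    · have := normalize_normalized_factor f hf
      rw [← this]; exact monic_normalize hfi.ne_zero
    · obtain ⟨c, hc⟩ := hfd
      rw [hc, mul_coeff_zero, h, zero_mul]
  have hprod : μ = ∏ f ∈ S, f ^ e f := by
    conv_lhs => rw [← hμ.normalize_eq_self, ← prod_normalizedFactors_eq hμ.ne_zero]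
    exact Finset.prod_multiset_count _
  have hdegsum : μ.natDegree = ∑ f ∈ S, e f * f.natDegree := by
    conv_lhs => rw [hprod]
    rw [natDegree_prod _ _ fun f hf => pow_ne_zero _ (hmem f hf).1.ne_zero]
    exact Finset.sum_congr rfl fun f _ => natDegree_pow f (e f)
  have he1 : ∀ f ∈ S, 1 ≤ e f := fun f hf => Multiset.one_le_count_iff_mem.2 (Multiset.mem_toFinset.1 hf)
  have hdu : ∀ f ∈ S, DualPoly.dual σ f ∈ S ∧ e f ≤ e (DualPoly.dual σ f) := fun f hf => by
    obtain ⟨hfm, hfi, hfd, hf0⟩ := hmem f hf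
    have hdm : (DualPoly.dual σ f).Monic := DualPoly.dual_monic hf0
    have hdi : Irreducible (DualPoly.dual σ f) := DualPoly.dual_irreducible hσ hfm hfi hf0
    have hd : DualPoly.dual σ f ^ e f ∣ μ := by
      have h1 : f ^ e f ∣ μ := by rw [hprod]; exact Finset.dvd_prod_of_mem _ hf
      obtain ⟨c, hc⟩ := h1
      rw [← dual_pow']
      exact ⟨DualPoly.dual σ c, by rw [← DualPoly.dual_mul, ← hc, hsd]⟩
    have hle : e f ≤ e (DualPoly.dual σ f) := by
      have := (dvd_iff_normalizedFactors_le_normalizedFactors (pow_ne_zero _ hdm.ne_zero) hμ.ne_zero).1 hd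
      rw [normalizedFactors_pow, normalizedFactors_irreducible hdi, hdm.normalize_eq_self] at this
      simpa [he] using Multiset.count_le_of_le (DualPoly.dual σ f) this
    exact ⟨by rw [hS, Multiset.mem_toFinset, ← Multiset.one_le_count_iff_mem]; exact (he1 f hf).trans hle, hle⟩
  have hdue : ∀ f ∈ S, e (DualPoly.dual σ f) = e f := fun f hf => by
    refine le_antisymm ?_ (hdu f hf).2
    have h := (hdu _ (hdu f hf).1).2
    rwa [DualPoly.dual_dual hσ (hmem f hf).1 (hmem f hf).2.2.2] at h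
  obtain ⟨l, hl, hsum, hdvd, hnil, hone⟩ := exists_atoms hF hq hσq hσ e S fun f hf =>
    ⟨(hmem f hf).1, (hmem f hf).2.1, (hmem f hf).2.2.2, (hdu f hf).1, hdue f hf⟩
  have hSne : S.Nonempty := by
    rw [Finset.nonempty_iff_ne_empty]
    intro h
    rw [h, Finset.prod_empty] at hprod
    exact minpoly.not_isUnit F M (by rw [← hμdef, hprod]; exact isUnit_one)
  obtain ⟨f0, hf0, hmax⟩ := Finset.exists_max_image S e hSne
  have hcop : (S : Set F[X]).Pairwise (Function.onFun IsCoprime fun f => f ^ e f) := fun f hf g hg hne => by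
    refine IsCoprime.pow ((hmem f hf).2.1.coprime_iff_not_dvd.2 fun h => hne ?_)
    exact eq_of_monic_of_associated (hmem f hf).1 (hmem g hg).1 ((hmem f hf).2.1.associated_of_dvd (hmem g hg).2.1 h)
  have key : ∀ (L : ℕ) (c : F), (∀ f ∈ S, f ∣ X ^ L - C c) →
      ∃ c' : F, M ^ (L * p ^ Nat.clog p (e f0)) = c' • 1 := by
    intro L c h
    refine ⟨c ^ p ^ Nat.clog p (e f0), ?_⟩
    set k := Nat.clog p (e f0) with hk
    have h1 : μ ∣ (X ^ L - C c) ^ p ^ k := by
      rw [hprod]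
      exact Finset.prod_dvd_of_coprime hcop fun f hf =>
        (pow_dvd_pow f ((hmax f hf).trans (Nat.le_pow_clog (Fact.out : p.Prime).one_lt _))).trans
          (pow_dvd_pow_of_dvd (h f hf) _)
    have h2 := Polynomial.aeval_eq_zero_of_dvd_aeval_eq_zero h1 (minpoly.aeval F M)
    rw [sub_pow_char_pow, map_sub, ← pow_mul, map_pow, aeval_X, ← map_pow C, aeval_C, sub_eq_zero,
      Algebra.algebraMap_eq_smul_one] at h2
    exact h2
  refine ⟨l, e f0, hl, fun h => hSne.ne_empty (hnil h), he1 f0 hf0, ?_, ?_, ?_⟩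
  · have h1 : e f0 + ∑ f ∈ S, f.natDegree ≤ (∑ f ∈ S, e f * f.natDegree) + 1 := by
      rw [← Finset.add_sum_erase S _ hf0, ← Finset.add_sum_erase S _ hf0]
      have h2 : ∑ f ∈ S.erase f0, f.natDegree ≤ ∑ f ∈ S.erase f0, e f * f.natDegree :=
        Finset.sum_le_sum fun f hf => Nat.le_mul_of_pos_left _ (he1 f (Finset.mem_of_mem_erase hf))
      have h3 : e f0 + f0.natDegree ≤ e f0 * f0.natDegree + 1 := by
        have h4 := (hmem f0 hf0).2.1.natDegree_pos
        have h5 := he1 f0 hf0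
        nlinarith
      omega
    omega
  · intro hlen
    obtain ⟨w, rfl⟩ := List.length_eq_one_iff.1 hlen
    obtain ⟨c, hc⟩ := hone w rfl
    rw [hsum, Finset.mul_sum]
    refine le_of_eq_of_le ?_ hμdeg
    rw [hdegsum]
    exact Finset.sum_congr rfl fun f hf => by rw [(hc f hf).2 f0 hf0]
  · by_cases hlen : l.length = 1
    · obtain ⟨w, rfl⟩ := List.length_eq_one_iff.1 hlen
      obtain ⟨c, hc⟩ := hone w rfl
      rw [show expo p q [w] (e f0) = nn q w * p ^ Nat.clog p (e f0) by simp [expo]]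
      exact key _ c fun f hf => (hc f hf).1
    · rw [expo, if_neg hlen]
      exact key _ 1 fun f hf => by rw [map_one]; exact hdvd f hf

theorem center_of_smul {d : ℕ} (g : Cfsg.GU d F q) (c : F)
    (h : ((g : GL (Fin d) F) : Matrix (Fin d) (Fin d) F) = c • 1) : g ∈ Subgroup.center (Cfsg.GU d F q) :=
  Subgroup.mem_center_iff.2 fun k => Subtype.ext (Units.ext (by
    show ((k : GL (Fin d) F) : Matrix (Fin d) (Fin d) F) * ((g : GL (Fin d) F) : Matrix (Fin d) (Fin d) F) =
      ((g : GL (Fin d) F) : Matrix (Fin d) (Fin d) F) * ((k : GL (Fin d) F) : Matrix (Fin d) (Fin d) F)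
    rw [h, mul_smul_comm, smul_mul_assoc, mul_one, one_mul]))

/-- The bound for the order of an element of the projective general unitary group. -/
theorem order_bound (hF : Fintype.card F = q ^ 2) {p f d : ℕ} (hp : p.Prime) (hf : 1 ≤ f) (hq : q = p ^ f)
    (hd : 3 ≤ d) (h32 : ¬ (d = 3 ∧ q = 2)) [CharP F p]
    (g : ↥(Cfsg.GU d F q) ⧸ Subgroup.center ↥(Cfsg.GU d F q)) :
    orderOf g + 1 ≤ q ^ (d - 1) ∨ (Even d ∧ orderOf g ≤ q ^ (d - 1) + 1) ∨
      (Odd d ∧ q = p ∧ orderOf g ≤ (p ^ (d - 2) + 1) * p) ∨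
      (Even d ∧ q = 2 ∧ orderOf g ≤ 4 * (2 ^ (d - 3) + 1)) := by
  haveI := Fact.mk hp
  obtain ⟨X, rfl⟩ := QuotientGroup.mk_surjective g
  obtain ⟨l, E, hl, hl0, hE, hD, h1, c, hc⟩ := exists_scalar_pow hF p (show 1 ≤ d by omega)
    ((X : GL (Fin d) F) : Matrix (Fin d) (Fin d) F) ((mem_GU hF _).1 X.2)
  have hpos : 0 < expo p q l E := by
    refine Nat.mul_pos (Nat.mul_pos ?_ (List.prod_pos fun a ha => ?_)) (Nat.pow_pos hp.pos)
    · split_ifs <;> omega
    · obtain ⟨w, hw, rfl⟩ := List.mem_map.1 ha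
      exact nn_pos (hl w hw)
  have hle : orderOf (X : ↥(Cfsg.GU d F q) ⧸ Subgroup.center ↥(Cfsg.GU d F q)) ≤ expo p q l E := by
    refine Nat.le_of_dvd hpos (orderOf_dvd_of_pow_eq_one ?_)
    rw [← QuotientGroup.mk_pow, QuotientGroup.eq_one_iff]
    refine center_of_smul _ c ?_
    rw [SubgroupClass.coe_pow, Units.val_pow_eq_pow_val, hc]
  rcases bound hp hf hq hd h32 l E hl hl0 hE hD h1 with h | ⟨a, h⟩ | ⟨a, b, h⟩ | ⟨a, b, h⟩
  · exact Or.inl (by omega)
  · exact Or.inr (Or.inl ⟨a, hle.trans h⟩)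
  · exact Or.inr (Or.inr (Or.inl ⟨a, b, hle.trans h⟩))
  · exact Or.inr (Or.inr (Or.inr ⟨a, b, hle.trans h⟩))

end Cfsg.Lib.UnitOrders.MaxOrder
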