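import Cfsg.Agent.Known.UnitOrders.Spectrum
import Cfsg.Agent.Known.UnitarySemisimple
import Mathlib

/-!
Elements of large order in the projective general unitary group.
-/

set_option autoImplicit false
set_option linter.style.haveILetI false

open Matrix Cfsg.Lib.UnitaryConj

namespace Cfsg.Lib.UnitOrders.MaxOrder

universe u

variable {F : Type u} [Field F] [Fintype F] {q : ℕ}

/-- A unitary matrix of order `q ^ (2 m) - 1`. -/
theorem exists_singer (hF : Fintype.card F = q ^ 2) (p : ℕ) [Fact p.Prime] [CharP F p] {m : ℕ} (hm : 1 ≤ m) :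
    ∃ A : Matrix (Fin (2 * m)) (Fin (2 * m)) F,
      cst (Classical.powConj hF) A * A = 1 ∧ orderOf A = q ^ (2 * m) - 1 := by
  classical
  haveI : NeZero m := ⟨by omega⟩
  have hq2 := UnitarySingerOrder.q_two_le hF
  let K := FiniteField.Extension F p m
  have hcK : Nat.card K = q ^ (2 * m) := by
    rw [FiniteField.natCard_extension, Nat.card_eq_fintype_card, hF, ← pow_mul]
  haveI : Finite K := Nat.finite_of_card_ne_zero (by rw [hcK]; exact pow_ne_zero _ (by omega))
  haveI := Fintype.ofFinite K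
  obtain ⟨w, hw⟩ := IsCyclic.exists_ofOrder_eq_natCard (α := Kˣ)
  rw [Nat.card_units, hcK] at hw
  let b : Module.Basis (Fin m) F K := (Module.finBasis F K).reindex (finCongr (FiniteField.finrank_extension F p m))
  obtain ⟨L, hL⟩ : ∃ L : K →ₐ[F] Matrix (Fin m) (Fin m) F, L = Algebra.leftMulMatrix b := ⟨_, rfl⟩
  have hLinj : Function.Injective L := hL ▸ Algebra.leftMulMatrix_injective b
  set σ := Classical.powConj hF with hσdef
  obtain ⟨M, hM⟩ : ∃ M : K → Matrix (Fin m) (Fin m) F, ∀ x, M x = ((L x⁻¹).map σ)ᵀ :=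
    ⟨fun x => ((L x⁻¹).map σ)ᵀ, fun _ => rfl⟩
  let V := (Fin m → F) × (Fin m → F)
  let act : K → Module.End F V := fun x => (Matrix.toLin' (L x)).prodMap (Matrix.toLin' (M x))
  have hact' : ∀ x (v : V), act x v = (L x *ᵥ v.1, M x *ᵥ v.2) := fun x v =>
    Prod.ext (Matrix.toLin'_apply (L x) v.1) (Matrix.toLin'_apply (M x) v.2)
  have hinv := invol hF
  have hAB : ∀ x : K, x ≠ 0 → (L x)ᵀ * (M x).map σ = 1 := by
    intro x hx
    have h1 : (((L x⁻¹).map σ)ᵀ).map σ = (L x⁻¹)ᵀ := by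
      ext i j
      simp [hσdef, hinv]
    rw [hM, h1, ← Matrix.transpose_mul, ← map_mul, inv_mul_cancel₀ hx, map_one, Matrix.transpose_one]
  have hform : ∀ x : K, x ≠ 0 → ∀ u v, (UnitarySingerOrder.hypSpace hF m).h (act x u) (act x v) =
      (UnitarySingerOrder.hypSpace hF m).h u v := by
    intro x hx u v
    have key : ∀ a c : Fin m → F, (L x *ᵥ a) ⬝ᵥ (σ ∘ (M x *ᵥ c)) = a ⬝ᵥ (σ ∘ c) := by
      intro a c
      have h1 : σ ∘ (M x *ᵥ c) = (M x).map σ *ᵥ (σ ∘ c) := by
        funext i; simp [mulVec, dotProduct, map_sum]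
      rw [h1, dotProduct_comm, dotProduct_mulVec, ← mulVec_transpose, mulVec_mulVec, hAB x hx, one_mulVec,
        dotProduct_comm]
    have key2 : ∀ a c : Fin m → F, (M x *ᵥ a) ⬝ᵥ (σ ∘ (L x *ᵥ c)) = a ⬝ᵥ (σ ∘ c) := by
      intro a c
      have h := congrArg σ (key c a)
      simp only [hσdef, dotProduct, map_sum, map_mul, Function.comp_apply, hinv] at h
      simp only [hσdef, dotProduct, Function.comp_apply]
      simpa [mul_comm] using h
    simp only [UnitarySingerOrder.hypSpace, act, LinearMap.prodMap_apply, Matrix.toLin'_apply,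
      Finset.sum_add_distrib]
    exact congrArg₂ (· + ·) (key u.1 v.2) (key2 u.2 v.1)
  obtain ⟨e, he⟩ := (UnitarySingerOrder.hypSpace hF m).exists_isometry (Classical.stdHerm (2 * m) hF) rfl (by
    rw [Module.finrank_prod, Module.finrank_fin_fun, Module.finrank_fin_fun, two_mul])
  obtain ⟨A, hA⟩ : ∃ A : K → Matrix (Fin (2 * m)) (Fin (2 * m)) F,
      ∀ x, A x = LinearMap.toMatrix' (e.toLinearMap ∘ₗ act x ∘ₗ e.symm.toLinearMap) :=
    ⟨fun x => LinearMap.toMatrix' (e.toLinearMap ∘ₗ act x ∘ₗ e.symm.toLinearMap), fun _ => rfl⟩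
  have hAv : ∀ x v, A x *ᵥ v = e (act x (e.symm v)) := fun x v => by
    rw [hA, LinearMap.toMatrix'_mulVec]; rfl
  have hAmul : ∀ x y : K, A (x * y) = A x * A y := fun x y => by
    refine Matrix.ext_of_mulVec_single fun j => ?_
    rw [← mulVec_mulVec, hAv, hAv, hAv, e.symm_apply_apply]
    congr 1
    simp only [hact']
    refine Prod.ext ?_ ?_ <;> dsimp only
    · rw [mulVec_mulVec, map_mul]
    · rw [mulVec_mulVec, hM, hM, hM, mul_inv, map_mul, ← Matrix.transpose_mul, ← Matrix.map_mul,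
        ((Commute.all x⁻¹ y⁻¹).map L).eq]
  have hA1 : A 1 = 1 := by
    refine Matrix.ext_of_mulVec_single fun i => ?_
    rw [hAv, one_mulVec]
    have h1 : act 1 = 1 := by
      refine LinearMap.ext fun v => ?_
      simp only [hact', hM, inv_one, map_one, Matrix.map_one _ (map_zero σ) (map_one σ), Matrix.transpose_one,
        one_mulVec, Module.End.one_apply, Prod.mk.eta]
    rw [h1, Module.End.one_apply, e.apply_symm_apply]
  let Φ : Kˣ →* Matrix (Fin (2 * m)) (Fin (2 * m)) F :=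
    { toFun := fun x => A x
      map_one' := by simpa using hA1
      map_mul' := fun x y => by simpa using hAmul x y }
  have hΦ : Function.Injective Φ := (injective_iff_map_eq_one Φ).2 fun x hx => by
    refine Units.ext (hLinj ?_)
    rw [Units.val_one, map_one]
    refine Matrix.ext_of_mulVec_single fun i => ?_
    have h := hAv (x : K) (e (Pi.single i 1, 0))
    rw [show A (x : K) = 1 from hx, one_mulVec, e.symm_apply_apply] at h
    have h' := congrArg Prod.fst (e.injective h)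
    simp only [hact'] at h'
    rw [one_mulVec, ← h']
  refine ⟨A w, (preserves_iff hF _).1 fun u v => ?_, (orderOf_injective Φ hΦ w).trans hw⟩
  rw [← Classical.stdHerm_h hF, ← Classical.stdHerm_h hF, hAv, hAv, he, hform _ w.ne_zero, ← he, e.apply_symm_apply,
    e.apply_symm_apply]

/-- A unitary matrix of order `q ^ n + 1`. -/
theorem exists_torus (hF : Fintype.card F = q ^ 2) (p : ℕ) [Fact p.Prime] [CharP F p] {n : ℕ} (hn : Odd n) :
    ∃ A : Matrix (Fin n) (Fin n) F, cst (Classical.powConj hF) A * A = 1 ∧ orderOf A = q ^ n + 1 := by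
  classical
  have hq2 := UnitarySingerOrder.q_two_le hF
  haveI : NeZero n := ⟨hn.pos.ne'⟩
  let K := FiniteField.Extension F p n
  have hcK : Nat.card K = q ^ (2 * n) := by
    rw [FiniteField.natCard_extension, Nat.card_eq_fintype_card, hF, ← pow_mul]
  haveI : Finite K := Nat.finite_of_card_ne_zero (by rw [hcK]; exact pow_ne_zero _ (by omega))
  haveI := Fintype.ofFinite K
  haveI : CharP K p := charP_of_injective_algebraMap (algebraMap F K).injective p
  rw [Nat.card_eq_fintype_card] at hcK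
  obtain ⟨a, -, ha⟩ := UnitaryCommUnipotent.exists_q_eq_pow (p := p) hF
  let τ : K →+* K := iterateFrobenius K p (a * n)
  have hτ : ∀ x, τ x = x ^ q ^ n := fun x => by rw [ha, ← pow_mul]; exact iterateFrobenius_def p (a * n) x
  let H := traceSpace hF hn K hcK τ hτ
  obtain ⟨e, he⟩ := H.exists_isometry (Classical.stdHerm n hF) rfl (by
    rw [Module.finrank_fin_fun, FiniteField.finrank_extension])
  let b : Module.Basis (Fin n) F K := Module.Basis.ofEquivFun e
  let Φ : K →ₐ[F] Matrix (Fin n) (Fin n) F := Algebra.leftMulMatrix b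
  have hΦ : ∀ x v, Φ x *ᵥ e v = e (x * v) := fun x v => Algebra.leftMulMatrix_mulVec_repr b x v
  have hdvd : q ^ n + 1 ∣ Nat.card Kˣ := by
    rw [Nat.card_units, Nat.card_eq_fintype_card, hcK, show q ^ (2 * n) - 1 = (q ^ n + 1) * (q ^ n - 1) by
      rw [← Nat.sq_sub_sq, one_pow, ← pow_mul, mul_comm n]]
    exact dvd_mul_right _ _
  obtain ⟨w, hw⟩ := IsCyclic.exists_ofOrder_eq_natCard (α := Kˣ)
  obtain ⟨l, hl⟩ : ∃ l : Kˣ, orderOf l = q ^ n + 1 :=
    ⟨w ^ (orderOf w / (q ^ n + 1)), orderOf_pow_orderOf_div (orderOf_pos w).ne' (hw ▸ hdvd)⟩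
  have hl1 : τ l * l = 1 := by
    rw [hτ, ← pow_succ, ← Units.val_pow_eq_pow_val, ← hl, pow_orderOf_eq_one, Units.val_one]
  refine ⟨Φ l, (preserves_iff hF _).1 fun u v => ?_, ?_⟩
  · obtain ⟨u, rfl⟩ := e.surjective u
    obtain ⟨v, rfl⟩ := e.surjective v
    rw [hΦ, hΦ, ← Classical.stdHerm_h hF, ← Classical.stdHerm_h hF, he, he]
    show Algebra.trace F K ((l : K) * u * τ ((l : K) * v)) = Algebra.trace F K (u * τ v)
    rw [map_mul τ, show (l : K) * u * (τ l * τ v) = τ l * l * (u * τ v) by ring, hl1, one_mul]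
  · rw [← hl, ← orderOf_units]
    exact orderOf_injective Φ.toRingHom.toMonoidHom (Algebra.leftMulMatrix_injective b) (l : K)

/-- The centre consists of scalars. -/
theorem scalar_of_center (hF : Fintype.card F = q ^ 2) {d : ℕ} (g : Cfsg.GU d F q)
    (hg : g ∈ Subgroup.center (Cfsg.GU d F q)) :
    ∃ c : F, ((g : GL (Fin d) F) : Matrix (Fin d) (Fin d) F) = c • 1 := by
  classical
  rcases Nat.eq_zero_or_pos d with rfl | hd
  · exact ⟨0, Subsingleton.elim _ _⟩
  have hq2 := UnitarySingerOrder.q_two_le hF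
  set σ := Classical.powConj hF with hσ
  set A := ((g : GL (Fin d) F) : Matrix (Fin d) (Fin d) F) with hA
  rw [Subgroup.mem_center_iff] at hg
  have hcomm : ∀ M : Matrix (Fin d) (Fin d) F, cst σ M * M = 1 → M * A = A * M := fun M hM => by
    obtain ⟨h, hh⟩ := exists_GU_of hF M hM
    have := congrArg (fun x : ↥(Cfsg.GU d F q) => ((x : GL (Fin d) F) : Matrix (Fin d) (Fin d) F)) (hg h)
    simpa [hh, hA] using this
  obtain ⟨w, hw⟩ := IsCyclic.exists_ofOrder_eq_natCard (α := Fˣ)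
  obtain ⟨ω, hω⟩ : ∃ ω : Fˣ, orderOf ω = q + 1 := ⟨w ^ (orderOf w / (q + 1)),
    orderOf_pow_orderOf_div (orderOf_pos w).ne' (by
      rw [hw, Nat.card_units, Nat.card_eq_fintype_card, hF]
      exact ⟨q - 1, by rw [← Nat.sq_sub_sq, one_pow]⟩)⟩
  have hωn : σ (ω : F) * ω = 1 := by
    rw [hσ, Classical.powConj_apply hF, ← pow_succ, ← Units.val_pow_eq_pow_val, ← hω, pow_orderOf_eq_one,
      Units.val_one]
  have hω1 : (ω : F) ≠ 1 := fun h => by
    rw [Units.val_eq_one] at h
    rw [h, orderOf_one] at hω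
    omega
  have hoff : ∀ i j, i ≠ j → A i j = 0 := fun i j hij => by
    have h := congrFun (congrFun (hcomm (Matrix.diagonal fun k => if k = i then (ω : F) else 1) (by
      simp only [cst, Matrix.diagonal_map (map_zero _), Matrix.diagonal_transpose, Matrix.diagonal_mul_diagonal]
      refine (congrArg Matrix.diagonal (funext fun k => ?_)).trans Matrix.diagonal_one
      split_ifs
      · exact hωn
      · simp)) i) j
    rw [Matrix.diagonal_mul, Matrix.mul_diagonal, if_pos rfl, if_neg (Ne.symm hij), mul_one] at h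
    by_contra h0
    exact hω1 (mul_right_cancel₀ h0 (h.trans (one_mul _).symm))
  have hdiag : ∀ i j, A i i = A j j := fun i j => by
    have h := congrFun (congrFun (hcomm ((Equiv.swap i j).toPEquiv.toMatrix : Matrix (Fin d) (Fin d) F) (by
      ext a b
      simp only [cst, Matrix.mul_apply, Matrix.transpose_apply, Matrix.map_apply, PEquiv.toMatrix_apply,
        Equiv.toPEquiv_apply, Option.mem_def, Option.some.injEq, Matrix.one_apply]
      rw [Finset.sum_eq_single (Equiv.swap i j a)]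
      · simp
      · intro c _ hc
        rw [if_neg (fun e => hc (by rw [← e, Equiv.swap_apply_self])), map_zero, zero_mul]
      · simp)) i) j
    rw [PEquiv.toMatrix_toPEquiv_mul, PEquiv.mul_toMatrix_toPEquiv] at h
    simpa using h.symm
  refine ⟨A ⟨0, hd⟩ ⟨0, hd⟩, ?_⟩
  ext i j
  by_cases hij : i = j
  · subst hij; simp [hdiag i ⟨0, hd⟩]
  · simp [hoff i j hij, Matrix.one_apply_ne hij]

/-- Two blocks give an element whose order is the product of theirs. -/
theorem combine (hF : Fintype.card F = q ^ 2) {a b d : ℕ} (hab : a + b = d)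
    {A : Matrix (Fin a) (Fin a) F} {U : Matrix (Fin b) (Fin b) F} (hA : cst (Classical.powConj hF) A * A = 1)
    (hU : cst (Classical.powConj hF) U * U = 1) {N P : ℕ} (hN : orderOf A = N) (hP : orderOf U = P)
    (hc : ∀ (k : ℕ) (c : F), U ^ k = c • 1 → c = 1) (hcop : Nat.Coprime N P) :
    ∃ g : ↥(Cfsg.GU d F q) ⧸ Subgroup.center ↥(Cfsg.GU d F q), orderOf g = N * P := by
  subst hab
  have hV : cst (Classical.powConj hF) (UnitarySemisimple.bd A U) * UnitarySemisimple.bd A U = 1 := by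
    rw [UnitarySemisimple.cst_bd, UnitarySemisimple.bd_mul, hA, hU, UnitarySemisimple.bd_one]
  obtain ⟨X, hX⟩ := exists_GU_of hF _ hV
  refine ⟨X, ?_⟩
  have hpow : ∀ k : ℕ, (((X ^ k : Cfsg.GU (a + b) F q) : GL (Fin (a + b)) F) :
      Matrix (Fin (a + b)) (Fin (a + b)) F) = UnitarySemisimple.bd (A ^ k) (U ^ k) := fun k => by
    rw [SubgroupClass.coe_pow, Units.val_pow_eq_pow_val, hX, UnitarySemisimple.bd_pow]
  have hsm : ∀ c : F, UnitarySemisimple.bd (c • (1 : Matrix (Fin a) (Fin a) F)) (c • (1 : Matrix (Fin b) (Fin b) F)) =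
      c • 1 := fun c => by
    rw [← UnitarySemisimple.bd_one, UnitarySemisimple.bd, UnitarySemisimple.bd, ← map_smul, Matrix.fromBlocks_smul,
      smul_zero, smul_zero]
  have key : ∀ k : ℕ, (X : ↥(Cfsg.GU (a + b) F q) ⧸ Subgroup.center ↥(Cfsg.GU (a + b) F q)) ^ k = 1 ↔
      A ^ k = 1 ∧ U ^ k = 1 := fun k => by
    rw [← QuotientGroup.mk_pow, QuotientGroup.eq_one_iff]
    constructor
    · intro h
      obtain ⟨c, hc'⟩ := scalar_of_center hF _ h
      rw [hpow, ← hsm] at hc'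
      simp only [UnitarySemisimple.bd] at hc'
      obtain ⟨h1, -, -, h4⟩ := Matrix.fromBlocks_inj.1 ((Matrix.reindexAlgEquiv F F finSumFinEquiv).injective hc')
      obtain rfl := hc k c h4
      rw [one_smul] at h1 h4
      exact ⟨h1, h4⟩
    · rintro ⟨h1, h2⟩
      refine Subgroup.mem_center_iff.2 fun y => ?_
      have h3 : X ^ k = 1 := Subtype.ext (Units.ext (by
        rw [hpow, h1, h2, UnitarySemisimple.bd_one]; rfl))
      rw [h3, mul_one, one_mul]
  subst hN hP
  refine Nat.dvd_antisymm (orderOf_dvd_of_pow_eq_one ((key _).2 ⟨?_, ?_⟩)) ?_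
  · rw [pow_mul, pow_orderOf_eq_one, one_pow]
  · rw [mul_comm, pow_mul, pow_orderOf_eq_one, one_pow]
  · obtain ⟨h1, h2⟩ := (key _).1 (pow_orderOf_eq_one
      (X : ↥(Cfsg.GU (a + b) F q) ⧸ Subgroup.center ↥(Cfsg.GU (a + b) F q)))
    exact hcop.mul_dvd_of_dvd_of_dvd (orderOf_dvd_of_pow_eq_one h1) (orderOf_dvd_of_pow_eq_one h2)

theorem coprime_pow_add {p f e s : ℕ} (hp : p.Prime) (hf : 1 ≤ f) (he : 1 ≤ e) (hq : q = p ^ f) :
    Nat.Coprime (q ^ e + 1) (p ^ s) := by
  refine (((hp.coprime_iff_not_dvd).2 fun h => hp.not_dvd_one ?_).symm).pow_right _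
  exact (Nat.dvd_add_right (by rw [hq, ← pow_mul]; exact dvd_pow_self p (by positivity))).1 h

/-- `q ^ (d - 1) - 1` for odd `d`. -/
theorem exists_minus (p : ℕ) [Fact p.Prime] [CharP F p] {d : ℕ} (hF : Fintype.card F = q ^ 2) (hd : Odd d) (h3 : 3 ≤ d) :
    ∃ g : ↥(Cfsg.GU d F q) ⧸ Subgroup.center ↥(Cfsg.GU d F q), orderOf g = q ^ (d - 1) - 1 := by
  obtain ⟨m, rfl⟩ := hd
  obtain ⟨A, hA, hAo⟩ := exists_singer hF p (show 1 ≤ m by omega)
  obtain ⟨g, hg⟩ := combine hF rfl hA (U := (1 : Matrix (Fin 1) (Fin 1) F)) (by rw [cst_one, one_mul]) hAo orderOf_one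
    (fun k c h => by
      have := congrArg (fun M : Matrix (Fin 1) (Fin 1) F => M 0 0) h
      simpa using this.symm) (Nat.coprime_one_right _)
  exact ⟨g, by rw [hg, mul_one]; rfl⟩

/-- `q ^ (d - 1) + 1` for even `d`. -/
theorem exists_plus (p : ℕ) [Fact p.Prime] [CharP F p] {d : ℕ} (hF : Fintype.card F = q ^ 2) (hd : Even d) (h2 : 2 ≤ d) :
    ∃ g : ↥(Cfsg.GU d F q) ⧸ Subgroup.center ↥(Cfsg.GU d F q), orderOf g = q ^ (d - 1) + 1 := by
  have hodd : Odd (d - 1) := by obtain ⟨k, rfl⟩ := hd; exact ⟨k - 1, by omega⟩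
  obtain ⟨A, hA, hAo⟩ := exists_torus hF p hodd
  obtain ⟨g, hg⟩ := combine hF (show d - 1 + 1 = d by omega) hA (U := (1 : Matrix (Fin 1) (Fin 1) F))
    (by rw [cst_one, one_mul]) hAo orderOf_one
    (fun k c h => by
      have := congrArg (fun M : Matrix (Fin 1) (Fin 1) F => M 0 0) h
      simpa using this.symm) (Nat.coprime_one_right _)
  exact ⟨g, by rw [hg, mul_one]⟩

/-- A torus times a regular unipotent block of order `p ^ s`. -/
theorem exists_mixed {p f d : ℕ} [Fact p.Prime] [CharP F p] (hF : Fintype.card F = q ^ 2) (hf : 1 ≤ f) (hq : q = p ^ f) {m s : ℕ} (hm : 1 ≤ m) (hmd : m < d)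
    (hodd : Odd (d - m)) (hs : Nat.clog p m = s + 1) (hs' : p ^ s < m) :
    ∃ g : ↥(Cfsg.GU d F q) ⧸ Subgroup.center ↥(Cfsg.GU d F q), orderOf g = (q ^ (d - m) + 1) * p ^ (s + 1) := by
  have hp := (Fact.out : p.Prime)
  obtain ⟨A, hA, hAo⟩ := exists_torus hF p hodd
  obtain ⟨U, hU, hU1, hU2⟩ := exists_regular (p := p) hF hm
  rw [hs] at hU1
  haveI : Nonempty (Fin m) := ⟨⟨0, hm⟩⟩
  refine combine hF (show d - m + m = d by omega) hA hU hAo (orderOf_eq_prime_pow (hU2 s hs') hU1) (fun k c h => ?_)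
    (coprime_pow_add hp hf hodd.pos hq)
  have h1 : (c • (1 : Matrix (Fin m) (Fin m) F)) ^ p ^ (s + 1) = 1 := by
    rw [← h, ← pow_mul, mul_comm, pow_mul, hU1, one_pow]
  rw [_root_.smul_pow, one_pow] at h1
  have h2 : c ^ p ^ (s + 1) = 1 := by
    have := congrArg (fun M : Matrix (Fin m) (Fin m) F => M ⟨0, hm⟩ ⟨0, hm⟩) h1
    simpa using this
  have h3 : (c - 1) ^ p ^ (s + 1) = 0 := by rw [sub_pow_char_pow, h2, one_pow, sub_self]
  exact sub_eq_zero.1 (eq_zero_of_pow_eq_zero h3)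

end Cfsg.Lib.UnitOrders.MaxOrder
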